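import Groth.Agent.H29CurveDual.Semistable
import Groth.Agent.H10Inj.SheafExt.DualTensor
import Groth.Agent.H10Inj.SheafExt.RelExt
import Groth.Agent.H10Coh.TensorBasics
import Groth.Agent.H29Ref.Ops
import Groth.Agent.H22Alg.ExtPowSum

/-!
# Homomorphism spaces, duals and degrees on a curve
-/

set_option autoImplicit false
set_option linter.style.haveILetI false
set_option backward.isDefEq.respectTransparency.types false

universe u

open CategoryTheory CategoryTheory.Limits AlgebraicGeometry TopologicalSpace Opposite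
open Groth.Agent.H29RR Groth.Agent.H29CurveDual Groth.Agent.H10Inj.SheafExt
open Groth.Agent.H16Derived.KFlat.Stalk

noncomputable section

namespace Groth.Agent.H23SS

attribute [local instance 10000] H10Coh.hasSheafifyAb H10Coh.hasWeakSheafifyAb H10Coh.hasExtAb H10Coh.enoughInjAb
attribute [local instance] homModule

section General

variable {X : Scheme.{u}}

/-- Morphisms out of a tensor product are determined on products of sections. -/
theorem tensor_hom_ext {M N F : X.Modules} (f g : tensor M N ⟶ F)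
    (h : ∀ (U : X.Opens) (m : Γ(M, U)) (n : Γ(N, U)), f.app U (tensorSect U m n) = g.app U (tensorSect U m n)) :
    f = g := by
  let adj := PresheafOfModules.sheafificationAdjunction (R := X.ringCatSheaf) (𝟙 X.ringCatSheaf.obj)
  refine (adj.homEquiv (CohB1.tensorPre M N) F).injective (PresheafOfModules.hom_ext fun U => ?_)
  refine ModuleCat.MonoidalCategory.tensor_ext fun m n => ?_
  rw [Adjunction.homEquiv_unit, Adjunction.homEquiv_unit]
  exact h U.unop m n

theorem tensor_map_scal (E M : X.Modules) (r : Γ(X, ⊤)) :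
    ((DCoh.tensorBi (X := X)).obj E).map (scal M r) = scal (tensor E M) r := by
  refine tensor_hom_ext _ _ fun U m n => ?_
  refine Eq.trans ?_ (scal_app (tensor E M) r U (tensorSect U m n)).symm
  refine Eq.trans ?_ (tensorSect_smul_right (X.presheaf.map (homOfLE (le_top : U ≤ ⊤)).op r) m n)
  exact H10Coh.SheafHom.map_tensorSect (scal M r) U m n

variable (k : Type u) [Field k] [X.Over (Spec (CommRingCat.of k))]

/-- Homomorphisms out of a module as sections of the sheaf Hom. -/
theorem finrank_h0_homSh (E G : X.Modules) :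
    Module.finrank k (Coh.HH X (RefHull.homSh E G) 0) = Module.finrank k (E ⟶ G) := by
  let L := (DCoh.tensorBi (X := X)).obj E
  let adj := homAdj E
  let e : (L.obj (Coh.structureModule X) ⟶ G) ≃ₗ[k] (Coh.structureModule X ⟶ (homFunctor E).obj G) :=
    { (adj.homEquiv (Coh.structureModule X) G) with
      map_add' := fun φ ψ => by
        show adj.homEquiv _ _ (φ + ψ) = adj.homEquiv _ _ φ + adj.homEquiv _ _ ψ
        rw [Adjunction.homEquiv_unit, Adjunction.homEquiv_unit, Adjunction.homEquiv_unit]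
        haveI : (homFunctor E).Additive := adj.right_adjoint_additive
        rw [Functor.map_add, Preadditive.comp_add]
      map_smul' := fun a φ => by
        show adj.homEquiv _ _ (φ ≫ scal G _) = adj.homEquiv _ _ φ ≫ scal ((homFunctor E).obj G) _
        rw [← scal_natural φ, ← scal_natural (adj.homEquiv _ _ φ)]
        rw [← tensor_map_scal E (Coh.structureModule X)]
        exact adj.homEquiv_naturality_left _ _ }
  exact ((finrank_hom_congr k (H10Coh.Tw.rightUnitIso E) (G := G)).trans
    (e.finrank_eq.trans (finrank_hom_structure k _))).symm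

/-- A nonzero section of `E^∨ ⊗ F` gives a nonzero map. -/
theorem exists_ne_zero_of_h0 (E F : X.Modules) (hE : FlatMod.IsFinLocFree E)
    (h : 0 < Module.finrank k (Coh.HH X (CohB1.tensorMod (RefHull.dual E) F) 0)) : ∃ φ : E ⟶ F, φ ≠ 0 := by
  by_contra hne
  push Not at hne
  haveI : Subsingleton (E ⟶ F) := ⟨fun a b => by rw [hne a, hne b]⟩
  have h' : 0 < Module.finrank k (Coh.HH X (RefHull.homSh E F) 0) :=
    lt_of_lt_of_eq h (finrank_h0_congr (k := k) ((dualHomIso E hE).app F) 0)
  rw [finrank_h0_homSh k E F] at h'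
  have h0 : Module.finrank k (E ⟶ F) = 0 := Module.finrank_zero_of_subsingleton
  omega

theorem finrank_generic [IsIntegral X] {E : X.Modules} {n : ℕ} (hE : FlatMod.IsFinLocFreeOfRank n E) :
    Module.finrank (X.presheaf.stalk (genericPoint X)) (E.presheaf.stalk (genericPoint X)) = n := by
  have hf : FlatMod.IsFinLocFree E := fun x => let ⟨U, hx, h⟩ := hE x; ⟨U, n, hx, h⟩
  obtain ⟨U, hx, ⟨c⟩⟩ := hE (genericPoint X)
  obtain ⟨W, hW, hxW, hle⟩ := exists_isAffineOpen_mem_and_subset (X := X) (U := U) (x := genericPoint X) hx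
  obtain ⟨b⟩ := H8Props.FinLocFree.exists_basis_of_chart E c hle
  obtain ⟨s⟩ := H22Alg.ExtPowSum.exists_stalkBasis (H8Props.FinLocFree.isQCoh_of_isFinLocFree E hf) hW b hxW
  rw [Module.finrank_eq_card_basis s, Fintype.card_fin]

theorem ofRank_dual {r : ℕ} {E : X.Modules} (hE : FlatMod.IsFinLocFreeOfRank r E) :
    FlatMod.IsFinLocFreeOfRank r (RefHull.dual E) := fun x => by
  have hEf : FlatMod.IsFinLocFree E := fun x => let ⟨U, hx, h⟩ := hE x; ⟨U, r, hx, h⟩
  have hD := H10Inj.SheafExt.isFinLocFree_dual hEf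
  obtain ⟨U, hx, ⟨c⟩⟩ := hE x
  obtain ⟨V, n, hxV, ⟨d⟩⟩ := hD x
  obtain ⟨W, hW, hxW, hle⟩ := exists_isAffineOpen_mem_and_subset (X := X) (U := U ⊓ V) (x := x) ⟨hx, hxV⟩
  obtain ⟨bE⟩ := H8Props.FinLocFree.exists_basis_of_chart E c fun y hy => (hle hy).1
  obtain ⟨bD⟩ := H8Props.FinLocFree.exists_basis_of_chart _ d fun y hy => (hle hy).2
  obtain ⟨sE⟩ := H22Alg.ExtPowSum.exists_stalkBasis (H8Props.FinLocFree.isQCoh_of_isFinLocFree E hEf) hW bE hxW
  obtain ⟨sD⟩ := H22Alg.ExtPowSum.exists_stalkBasis (H8Props.FinLocFree.isQCoh_of_isFinLocFree _ hD) hW bD hxW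
  have h1 := (H29Ref.dualEquiv E (H8Props.FinLocFree.isFP_of_isFinLocFree E hEf) x).finrank_eq
  rw [Module.finrank_eq_card_basis sD, Module.finrank_eq_card_basis sE.dualBasis, Fintype.card_fin,
    Fintype.card_fin] at h1
  exact h1 ▸ ⟨V, hxV, ⟨d⟩⟩

end General

variable {k : Type u} [Field k] {X : Scheme.{u}} [X.Over (Spec (CommRingCat.of k))] [IsIntegral X]
  [IsProper (X ↘ Spec (CommRingCat.of k))] [Smooth (X ↘ Spec (CommRingCat.of k))]

/-- The degree of the dual. -/
theorem deg_dual (hdim : topologicalKrullDim X = 1) {n : ℕ} {E : X.Modules}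
    (hE : FlatMod.IsFinLocFreeOfRank n E) :
    Curv2.deg k X (RefHull.dual E) n = - Curv2.deg k X E n := by
  haveI := isNoetherian_of_proper (k := k) (X := X)
  let Ω := Omega.sheaf (X ↘ Spec (CommRingCat.of k))
  have hΩ : PicF.IsInvertible Ω := isInvertible_omega_curve (k := k) (X := X) hdim
  have hD := ofRank_dual hE
  have hT := rank_tensor hE hΩ
  have hf : FlatMod.IsFinLocFree E := fun x => let ⟨U, hx, h⟩ := hE x; ⟨U, n, hx, h⟩
  have hDf := H10Inj.SheafExt.isFinLocFree_dual hf
  haveI := H10Inj.SheafExt.isIso_bidualMap hf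
  have a1 : Module.finrank k (Coh.HH X (RefHull.dual E) 0) =
      Module.finrank k (E ⟶ Coh.structureModule X) := finrank_h0_homSh k E (Coh.structureModule X)
  have a2 : Module.finrank k (Coh.HH X (CohB1.tensorMod E Ω) 1) =
      Module.finrank k (E ⟶ Coh.structureModule X) := by
    rw [finrank_h1_eq hdim (isCoh_of_rank hT), finrank_hom_twist k hΩ E (Coh.structureModule X)]
    exact finrank_hom_congr' (H10Coh.Tw.leftUnitIso Ω)
  have a3 : Module.finrank k (Coh.HH X (RefHull.dual E) 1) =
      Module.finrank k (Coh.HH X (CohB1.tensorMod E Ω) 0) := by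
    rw [finrank_h1_eq hdim (isCoh_of_rank hD), ← finrank_h0_homSh k (RefHull.dual E) Ω]
    exact finrank_h0_congr (k := k) (((dualHomIso (RefHull.dual E) hDf).app Ω).symm ≪≫
      H10Inj.SheafExt.tensorModIso (asIso (RefHull.bidualMap E)).symm (Iso.refl Ω)) 0
  have e := deg_tensor_bundle (k := k) hdim.le hE hΩ
  have eO := euler_eq_sub (k := k) hdim.le (Coh.structureModule X)
  have hω := deg_omega (k := k) (X := X) hdim
  rw [Curv2.genus] at hω
  simp only [Curv2.deg] at e
  rw [euler_eq_sub (k := k) hdim.le (CohB1.tensorMod E Ω), a2, ← a3, eO] at e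
  simp only [Curv2.deg]
  rw [euler_eq_sub (k := k) hdim.le (RefHull.dual E), a1, eO]
  simp only [Curv2.deg, Nat.cast_one, one_mul] at hω e ⊢
  linear_combination -e - (n : ℤ) * hω - (n : ℤ) * eO
where
  finrank_hom_congr' {A G G' : X.Modules} (e : G ≅ G') :
      Module.finrank k (A ⟶ G') = Module.finrank k (A ⟶ G) :=
    LinearEquiv.finrank_eq
      { toFun := fun φ => φ ≫ e.inv
        invFun := fun φ => φ ≫ e.hom
        left_inv := fun φ => by simp
        right_inv := fun φ => by simp
        map_add' := fun φ ψ => Preadditive.add_comp _ _ _ _ _ _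
        map_smul' := fun a φ => by
          show (φ ≫ scal _ _) ≫ e.inv = (φ ≫ e.inv) ≫ scal _ _
          rw [Category.assoc, Category.assoc, scal_natural]
          rfl }

/-- If there are no maps to a bundle of slope `g - 1`, then no subsheaf has positive degree. -/
theorem deg_le_zero_of_hom_eq_zero (hdim : topologicalKrullDim X = 1)
    (h0 : Module.finrank k (Coh.HH X (Coh.structureModule X) 0) = 1)
    {E F : X.Modules} {r n : ℕ} (hE : FlatMod.IsFinLocFreeOfRank r E) (hdE : Curv2.deg k X E r = 0)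
    (hn : 0 < n) (hF : FlatMod.IsFinLocFreeOfRank n F)
    (hdF : Curv2.deg k X F n = (n : ℤ) * ((Curv2.genus k X : ℤ) - 1))
    (hhom : ∀ φ : E ⟶ F, φ = 0) {G : X.Modules} {s : ℕ} (hG : FlatMod.IsFinLocFreeOfRank s G)
    (i : G ⟶ E) [Mono i] : Curv2.deg k X G s ≤ 0 := by
  haveI := isNoetherian_of_proper (k := k) (X := X)
  obtain ⟨G', ι', c, hι, hG', hc, -, hle, hd⟩ := exists_saturated_quotient (k := k) hdim.le hE hG i
  by_contra hpos
  have hQ : Curv2.deg k X (cokernel ι') c < 0 := by omega
  have hD := ofRank_dual hc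
  have hcf : FlatMod.IsFinLocFree (cokernel ι') := fun x => let ⟨U, hx, h⟩ := hc x; ⟨U, c, hx, h⟩
  have he := euler_tensor_eq (k := k) hF hdim.le (isCoh_of_rank hD)
  rw [finrank_generic hD, H25Euler.euler_congr (k := k) (H10Coh.Tw.commIso F (RefHull.dual (cokernel ι'))),
    euler_eq_sub (k := k) hdim.le (CohB1.tensorMod (RefHull.dual (cokernel ι')) F), hdF] at he
  have hdd := deg_dual (k := k) hdim hc
  simp only [Curv2.deg] at hdd
  have hO := euler_eq_sub (k := k) hdim.le (Coh.structureModule X)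
  rw [h0] at hO
  have hg : (Module.finrank k (Coh.HH X (Coh.structureModule X) 1) : ℤ) = (Curv2.genus k X : ℤ) := rfl
  have key : 0 < Module.finrank k (Coh.HH X (CohB1.tensorMod (RefHull.dual (cokernel ι')) F) 0) := by
    have h2 : (n : ℤ) * Curv2.deg k X (cokernel ι') c < 0 :=
      mul_neg_of_pos_of_neg (by omega) hQ
    rw [hO, hg] at hdd
    push_cast at hdd
    have hχ : Curv2.euler k X (RefHull.dual (cokernel ι')) =
        - Curv2.deg k X (cokernel ι') c + (c : ℤ) * (1 - (Curv2.genus k X : ℤ)) := by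
      have hdQ : Curv2.deg k X (cokernel ι') c =
          Curv2.euler k X (cokernel ι') - (c : ℤ) * Curv2.euler k X (Coh.structureModule X) := rfl
      rw [hO, hg] at hdQ
      push_cast at hdQ
      linarith
    rw [hχ] at he
    nlinarith
  obtain ⟨φ, hφ⟩ := exists_ne_zero_of_h0 k (cokernel ι') F hcf key
  exact hφ ((cancel_epi (cokernel.π ι')).1 ((hhom _).trans comp_zero.symm))

end Groth.Agent.H23SS
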