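import Groth.Agent.H23SS.WeilFinite
import Groth.Prelude.Def_ModFun2

/-!
# Essentially finite bundles are stable under tensor products
-/

set_option autoImplicit false
set_option linter.style.haveILetI false
set_option backward.isDefEq.respectTransparency.types false

universe u

open CategoryTheory CategoryTheory.Limits AlgebraicGeometry TopologicalSpace Opposite
open Groth.Agent.H29RR Groth.Agent.H29CurveDual

noncomputable section

namespace Groth.Agent.H23SS

attribute [local instance 10000] H10Coh.hasSheafifyAb H10Coh.hasWeakSheafifyAb H10Coh.hasExtAb H10Coh.enoughInjAb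

variable {k : Type u} [Field k] {X : Scheme.{u}} [X.Over (Spec (CommRingCat.of k))] [IsIntegral X]
  [IsProper (X ↘ Spec (CommRingCat.of k))] [Smooth (X ↘ Spec (CommRingCat.of k))]

/-- Semistable of degree zero. -/
def SS0 (k : Type u) [Field k] [X.Over (Spec (CommRingCat.of k))] (E : X.Modules) (r : ℕ) : Prop :=
  Curv2.deg k X E r = 0 ∧ ModFun.IsSlopeSemistable k X E r

omit [Smooth (X ↘ Spec (CommRingCat.of k))] in
include k in
theorem deg_sub_nonpos {E G : X.Modules} {r s : ℕ} (hE : FlatMod.IsFinLocFreeOfRank r E) (h : SS0 k E r)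
    (hG : FlatMod.IsFinLocFreeOfRank s G) (i : G ⟶ E) [Mono i] : Curv2.deg k X G s ≤ 0 := by
  haveI := isNoetherian_of_proper (k := k) (X := X)
  rcases Nat.eq_zero_or_pos s with hs | hs
  · subst hs
    exact (deg_eq_zero_of_rank_zero hG).le
  · have hr : 0 < r := lt_of_lt_of_le hs (H25Par.rank_le_of_mono (genericPoint X) hG hE i)
    have h2 := h.2 G s i inferInstance hs hG
    rw [h.1, zero_mul] at h2
    exact nonpos_of_mul_nonpos_left h2 (by exact_mod_cast hr)

theorem ss0_sub {E G : X.Modules} {r s : ℕ} (hE : FlatMod.IsFinLocFreeOfRank r E) (h : SS0 k E r)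
    (i : G ⟶ E) [Mono i] (hd : Curv2.deg k X G s = 0) : SS0 k G s := by
  refine ⟨hd, fun G' s' j hj hs' hG' => ?_⟩
  haveI := hj
  rw [hd, zero_mul]
  exact mul_nonpos_of_nonpos_of_nonneg (deg_sub_nonpos (k := k) hE h hG' (j ≫ i)) (Int.natCast_nonneg s)

/-- A subsheaf of degree zero of a semistable bundle of degree zero is a subbundle. -/
theorem locFree_cokernel (hdim : topologicalKrullDim X = 1) {E G : X.Modules} {r s : ℕ}
    (hE : FlatMod.IsFinLocFreeOfRank r E) (h : SS0 k E r) (hG : FlatMod.IsFinLocFreeOfRank s G)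
    (i : G ⟶ E) [Mono i] (hd : Curv2.deg k X G s = 0) :
    ∃ c : ℕ, FlatMod.IsFinLocFreeOfRank c (cokernel i) := by
  refine exists_rank_quotient_of_max (k := k) hdim.le
    (S := ShortComplex.mk i (cokernel.π i) (cokernel.condition i)) { exact := ShortComplex.exact_cokernel _ }
    hG hE fun G' l hl hG' => ?_
  haveI := hl
  change Curv2.deg k X G' s ≤ Curv2.deg k X G s
  rw [hd]
  exact deg_sub_nonpos (k := k) hE h hG' l

/-- A quotient bundle of degree zero of a semistable bundle of degree zero. -/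
theorem ss0_quot (hdim : topologicalKrullDim X = 1) {P E : X.Modules} {n r : ℕ}
    (hP : FlatMod.IsFinLocFreeOfRank n P) (h : SS0 k P n) (hE : FlatMod.IsFinLocFreeOfRank r E)
    (p : P ⟶ E) [Epi p] (hd : Curv2.deg k X E r = 0) :
    ∃ a : ℕ, FlatMod.IsFinLocFreeOfRank a (kernel p) ∧ SS0 k (kernel p) a ∧ SS0 k E r := by
  obtain ⟨a, -, hK, -⟩ := exists_image_data (k := k) hdim.le hP hE p
  let S := ShortComplex.mk (kernel.ι p) p (kernel.condition p)
  have hS : S.ShortExact := { exact := ShortComplex.exact_kernel _ }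
  obtain ⟨-, hadd⟩ := deg_add_of_shortExact (k := k) (S := S) hS hK hP hE
  have hdK : Curv2.deg k X (kernel p) a = 0 := by
    have h1 : Curv2.deg k X P n = Curv2.deg k X (kernel p) a + Curv2.deg k X E r := hadd
    rw [h.1, hd] at h1
    omega
  refine ⟨a, hK, ss0_sub hP h (kernel.ι p) hdK, hd, fun Q s j hj hs hQ => ?_⟩
  haveI := hj
  obtain ⟨P', l, hl, hP', hdP⟩ := exists_preimage (k := k) hdim.le (S := S) hS hK hP hQ j
  haveI := hl
  have := deg_sub_nonpos (k := k) hP h hP' l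
  rw [hdP, show Curv2.deg k X S.X₁ a = 0 from hdK, zero_add] at this
  rw [hd, zero_mul]
  exact mul_nonpos_of_nonpos_of_nonneg this (Int.natCast_nonneg r)

theorem ss0_of_wf [IsAlgClosed k] (hdim : topologicalKrullDim X = 1) {E : X.Modules} {r : ℕ}
    (hE : FlatMod.IsFinLocFreeOfRank r E) (hwf : H7KS.WF E) : SS0 k E r := by
  have h0 : Curv2.deg k X E r = 0 := by
    rcases Nat.eq_zero_or_pos r with hr | hr
    · subst hr
      exact deg_eq_zero_of_rank_zero hE
    · exact deg_eq_zero_of_wf (k := k) hdim hr hE hwf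
  refine ⟨h0, fun F s i hi hs hF => ?_⟩
  haveI := hi
  rw [h0, zero_mul]
  exact mul_nonpos_of_nonpos_of_nonneg (deg_sub_le_zero (k := k) hdim hE hwf hF hs i) (Int.natCast_nonneg r)

theorem epi_tensor {A A' B B' : X.Modules} (a : A ⟶ A') [Epi a] (b : B ⟶ B') [Epi b] :
    ∃ c : CohB1.tensorMod A B ⟶ CohB1.tensorMod A' B', Epi c := by
  haveI := H16Derived.KFlat.Stalk.preservesColimits_tensorRightMod B
  haveI := preservesColimitsOfSize_shrink.{0, u, 0, u} (DCoh.tensorRightMod B)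
  haveI := H16Derived.KFlat.Stalk.preservesColimits_tensorRightMod A'
  haveI := preservesColimitsOfSize_shrink.{0, u, 0, u} (DCoh.tensorRightMod A')
  let c1 : CohB1.tensorMod A B ⟶ CohB1.tensorMod A' B := (DCoh.tensorRightMod B).map a
  let c2 : CohB1.tensorMod B A' ⟶ CohB1.tensorMod B' A' := (DCoh.tensorRightMod A').map b
  haveI : Epi c1 := inferInstanceAs (Epi ((DCoh.tensorRightMod B).map a))
  haveI : Epi c2 := inferInstanceAs (Epi ((DCoh.tensorRightMod A').map b))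
  haveI : Epi (c2 ≫ (H10Coh.Tw.commIso B' A').hom) := epi_comp _ _
  haveI : Epi ((H10Coh.Tw.commIso A' B).hom ≫ c2 ≫ (H10Coh.Tw.commIso B' A').hom) := epi_comp _ _
  exact ⟨c1 ≫ (H10Coh.Tw.commIso A' B).hom ≫ c2 ≫ (H10Coh.Tw.commIso B' A').hom, epi_comp _ _⟩

/-- The data of an essentially finite bundle. -/
def EssData (k : Type u) [Field k] [X.Over (Spec (CommRingCat.of k))] (E : X.Modules) : Prop :=
  ∃ (s : ℕ) (G : X.Modules) (s₁ : ℕ) (F₁ : X.Modules) (s₂ : ℕ) (F₂ : X.Modules) (i₁ : F₁ ⟶ G) (i₂ : F₂ ⟶ F₁),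
        FlatMod.IsFinLocFreeOfRank s G ∧
        (∃ P Q : Polynomial ℕ, P ≠ Q ∧ Nonempty ((∐ fun i : Fin (P.natDegree + 1) => ∐ fun _ : Fin (P.coeff ↑i) => CohB1.tensorPow G ↑i) ≅
          (∐ fun i : Fin (Q.natDegree + 1) => ∐ fun _ : Fin (Q.coeff ↑i) => CohB1.tensorPow G ↑i))) ∧
        FlatMod.IsFinLocFreeOfRank s₁ F₁ ∧ FlatMod.IsFinLocFreeOfRank s₂ F₂ ∧ Mono i₁ ∧ Mono i₂ ∧
        FlatMod.IsFinLocFree (cokernel i₁) ∧ FlatMod.IsFinLocFree (cokernel i₂) ∧
        Curv2.deg k X F₁ s₁ = 0 ∧ ModFun.IsSlopeSemistable k X F₁ s₁ ∧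
        Curv2.deg k X F₂ s₂ = 0 ∧ ModFun.IsSlopeSemistable k X F₂ s₂ ∧
        Nonempty (E ≅ cokernel i₂)

/-- Tensor products of essentially finite bundles. -/
theorem essData_tensor [IsAlgClosed k] (hdim : topologicalKrullDim X = 1) {r₁ r₂ : ℕ} {E E' : X.Modules}
    (hE : FlatMod.IsFinLocFreeOfRank r₁ E) (hE' : FlatMod.IsFinLocFreeOfRank r₂ E')
    (h0 : Curv2.deg k X E r₁ = 0) (h0' : Curv2.deg k X E' r₂ = 0)
    (h : EssData k E) (h' : EssData k E') :
    FlatMod.IsFinLocFreeOfRank (r₁ * r₂) (CohB1.tensorMod E E') ∧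
      (Curv2.deg k X (CohB1.tensorMod E E') (r₁ * r₂) = 0 ∧
        ModFun.IsSlopeSemistable k X (CohB1.tensorMod E E') (r₁ * r₂) ∧ EssData k (CohB1.tensorMod E E')) := by
  obtain ⟨s, G, s₁, F, s₂, K, i, j, hG, hwf, hF, hK, hi, hj, -, -, hdF, -, -, -, ⟨e⟩⟩ := h
  obtain ⟨s', G', s₁', F', s₂', K', i', j', hG', hwf', hF', hK', hi', hj', -, -, hdF', -, -, -, ⟨e'⟩⟩ := h'
  haveI := hi; haveI := hi'; haveI := hj; haveI := hj'
  have lf : ∀ {M : X.Modules} {n : ℕ}, FlatMod.IsFinLocFreeOfRank n M → FlatMod.IsFinLocFree M :=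
    fun hM x => let ⟨U, hx, h⟩ := hM x; ⟨U, _, hx, h⟩
  have hT := rank_tensor_bundle (k := k) hE hE'
  have hTF := rank_tensor_bundle (k := k) hF hF'
  have hTG := rank_tensor_bundle (k := k) hG hG'
  have hdT : Curv2.deg k X (CohB1.tensorMod E E') (r₁ * r₂) = 0 := by
    rw [deg_tensor_bundles (k := k) hdim hE hE', h0, h0', mul_zero, mul_zero, add_zero]
  have hdTF : Curv2.deg k X (CohB1.tensorMod F F') (s₁ * s₁') = 0 := by
    rw [deg_tensor_bundles (k := k) hdim hF hF', hdF, hdF', mul_zero, mul_zero, add_zero]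
  have hWG : H7KS.WF (CohB1.tensorMod G G') := (H7KS.wf_biprod_tensor k (lf hG) (lf hG') hwf hwf').2
  have hsG := ss0_of_wf (k := k) hdim hTG hWG
  obtain ⟨I, hI⟩ := mono_tensor (lf hF') (lf hG) i i'
  haveI := hI
  have hsF := ss0_sub hTG hsG I hdTF
  obtain ⟨p, hp⟩ := epi_tensor (cokernel.π j ≫ e.inv) (cokernel.π j' ≫ e'.inv)
  haveI := hp
  obtain ⟨a, hKp, hsK, hsT⟩ := ss0_quot (k := k) hdim hTF hsF hT p hdT
  obtain ⟨c, hc⟩ := locFree_cokernel (k := k) hdim hTG hsG hTF I hdTF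
  let S := ShortComplex.mk (kernel.ι p) p (kernel.condition p)
  have hS : S.ShortExact := { exact := ShortComplex.exact_kernel _ }
  let ec : CohB1.tensorMod E E' ≅ cokernel (kernel.ι p) :=
    hS.gIsCokernel.coconePointUniqueUpToIso (colimit.isColimit _)
  obtain ⟨c', hc'⟩ := locFree_cokernel (k := k) hdim hTF hsF hKp (kernel.ι p) hsK.1
  exact ⟨hT, hdT, hsT.2, _, CohB1.tensorMod G G', _, CohB1.tensorMod F F', a, kernel p, I, kernel.ι p,
    hTG, hWG, hTF, hKp, hI, inferInstance, lf hc, lf hc', hdTF, hsF.2, hsK.1, hsK.2, ⟨ec⟩⟩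

end Groth.Agent.H23SS
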