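import Groth.Agent.H23SS.WeilFinite
import Groth.Agent.H29RR.LineBound
import Groth.Agent.H29RR.SubBundle
import Groth.Agent.H27Perf.Tower
import Groth.Agent.H22Alg.PullVb
import Groth.Agent.H26Gr.QuotBC
import Groth.Agent.H11Plane.SecMap
import Groth.Agent.H22Alg.KExists

/-!
# Sections of iterated Frobenius pullbacks of bundles on a curve
-/

set_option autoImplicit false
set_option linter.style.haveILetI false
set_option maxHeartbeats 1000000
universe u

open CategoryTheory CategoryTheory.Limits AlgebraicGeometry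
open Groth.Agent.H29RR

namespace Groth.Agent.H23SS

variable {k : Type u} [Field k] [IsAlgClosed k] {X : Scheme.{u}} [X.Over (Spec (CommRingCat.of k))] [IsIntegral X]
  [IsProper (X ↘ Spec (CommRingCat.of k))] [Smooth (X ↘ Spec (CommRingCat.of k))]
  (p : ℕ) [Fact p.Prime] [FrobSch.IsCharP X p]

/-- The iterated Frobenius pullback. -/
noncomputable abbrev frPull (n : ℕ) (E : X.Modules) : X.Modules :=
  ((Scheme.Modules.pullback (FrobSch.frob X p)).obj)^[n] E

omit [IsAlgClosed k] [IsIntegral X] [IsProper (X ↘ Spec (CommRingCat.of k))] [Smooth (X ↘ Spec (CommRingCat.of k))] in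
theorem rank_frPull {r : ℕ} {E : X.Modules} (hE : FlatMod.IsFinLocFreeOfRank r E) :
    ∀ n, FlatMod.IsFinLocFreeOfRank r (frPull p n E)
  | 0 => hE
  | n + 1 => by
    rw [frPull, Function.iterate_succ_apply']
    exact H26Gr.isFinLocFreeOfRank_pullback _ (rank_frPull hE n)

/-- The iterated Frobenius multiplies degrees of line bundles by powers of the characteristic. -/
theorem deg_frPull (hdim : topologicalKrullDim X = 1) {M : X.Modules} (hM : PicF.IsInvertible M) :
    ∀ n, Curv2.deg k X (frPull p n M) 1 = (p : ℤ) ^ n * Curv2.deg k X M 1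
  | 0 => by simp only [frPull, Function.iterate_zero, id_eq, pow_zero, one_mul]
  | n + 1 => by
    haveI := isNoetherian_of_proper (k := k) (X := X)
    have hn := H22Alg.KExists.isInvertible_of_rank_one (rank_frPull p (rank_one_of_isInvertible hM) n)
    obtain ⟨e⟩ := H27Perf.Tower.exists_iso_frob (p := p) (X := X) hn
    have he := deg_congr (k := k) e
    rw [(deg_tensorPow_invertible (k := k) hdim hn p).2, deg_frPull hdim hM n] at he
    rw [frPull, Function.iterate_succ_apply', pow_succ]
    linear_combination he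

/-- A short exact sequence of bundles stays exact under the iterated Frobenius pullback. -/
theorem exists_ses_frPull {A E Q : X.Modules} {c : ℕ} (hQ : FlatMod.IsFinLocFreeOfRank c Q)
    {f : A ⟶ E} {g : E ⟶ Q} {w : f ≫ g = 0} (hS : (ShortComplex.mk f g w).ShortExact) :
    ∀ n, ∃ (f' : frPull p n A ⟶ frPull p n E) (g' : frPull p n E ⟶ frPull p n Q) (w' : f' ≫ g' = 0),
      (ShortComplex.mk f' g' w').ShortExact
  | 0 => ⟨f, g, w, hS⟩
  | n + 1 => by
    obtain ⟨f', g', w', hS'⟩ := exists_ses_frPull hQ hS n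
    have h := H22Alg.KModel.shortExact_pullback (FrobSch.frob X p) hS'
      (fun x => let ⟨U, hx, h⟩ := rank_frPull p hQ n x; ⟨U, c, hx, h⟩)
    have e : ∀ F : X.Modules, frPull p (n + 1) F = (Scheme.Modules.pullback (FrobSch.frob X p)).obj (frPull p n F) :=
      fun F => Function.iterate_succ_apply' _ n F
    rw [e A, e E, e Q]
    exact ⟨_, _, _, h⟩

include k in
/-- A line subbundle with locally free quotient. -/
theorem exists_line_ses (hdim : topologicalKrullDim X = 1) {r : ℕ} {E : X.Modules}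
    (hE : FlatMod.IsFinLocFreeOfRank (r + 1) E) :
    ∃ (A Q : X.Modules) (f : A ⟶ E) (g : E ⟶ Q) (w : f ≫ g = 0), PicF.IsInvertible A ∧
      FlatMod.IsFinLocFreeOfRank r Q ∧ (ShortComplex.mk f g w).ShortExact := by
  haveI := isNoetherian_of_proper (k := k) (X := X)
  obtain ⟨N, hN, hdN⟩ := exists_deg_gt (k := k) (X := X) hdim
    (|Curv2.deg k X E (r + 1)| + ((r : ℤ) + 1) * |Curv2.euler k X (Coh.structureModule X)|)
  have hA₁ := ofRank_dual (rank_one_of_isInvertible hN)
  have hA := H22Alg.KExists.isInvertible_of_rank_one hA₁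
  have hD := ofRank_dual hA₁
  have hdD : Curv2.deg k X (RefHull.dual (RefHull.dual N)) 1 = Curv2.deg k X N 1 := by
    rw [deg_dual hdim hA₁, deg_dual hdim (rank_one_of_isInvertible hN), neg_neg]
  have hT := rank_tensor_bundle (k := k) hD hE
  have hdT := deg_tensor_bundles (k := k) hdim hD hE
  rw [hdD] at hdT
  have hpos : 0 < Module.finrank k
      (Coh.HH X (CohB1.tensorMod (RefHull.dual (RefHull.dual N)) E) 0) := by
    have hu := euler_eq_sub (k := k) hdim.le (CohB1.tensorMod (RefHull.dual (RefHull.dual N)) E)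
    simp only [Curv2.deg, Nat.cast_mul, Nat.cast_one, Nat.cast_add] at hdT
    have hd : Curv2.euler k X E - ((r : ℤ) + 1) * Curv2.euler k X (Coh.structureModule X) =
      Curv2.deg k X E (r + 1) := by simp [Curv2.deg]
    rw [hd] at hdT
    rw [deg_def] at hdN
    have h1 := neg_abs_le (Curv2.deg k X E (r + 1))
    have h3 : (0 : ℤ) ≤ r := Int.natCast_nonneg r
    have h4 := abs_nonneg (Curv2.deg k X E (r + 1))
    have h5 := abs_nonneg (Curv2.euler k X (Coh.structureModule X))
    have g1 := mul_le_mul_of_nonneg_left hdN.le (by omega : (0 : ℤ) ≤ (r : ℤ) + 1)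
    have g1' : (r : ℤ) + 1 ≤ ((r : ℤ) + 1) * (Curv2.euler k X N - Curv2.euler k X (Coh.structureModule X) -
        (|Curv2.deg k X E (r + 1)| + ((r : ℤ) + 1) * |Curv2.euler k X (Coh.structureModule X)|)) := by
      nlinarith
    have g2 := mul_nonneg h3 h4
    have g3 := mul_nonneg (mul_nonneg h3 (by omega : (0 : ℤ) ≤ (r : ℤ) + 1)) h5
    have g4 := mul_le_mul_of_nonneg_left (neg_abs_le (Curv2.euler k X (Coh.structureModule X)))
      (by omega : (0 : ℤ) ≤ (r : ℤ) + 1)
    have heq : (Module.finrank k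
        (Coh.HH X (CohB1.tensorMod (RefHull.dual (RefHull.dual N)) E) 0) : ℤ) > 0 := by
      nlinarith
    exact_mod_cast heq
  obtain ⟨φ, hφ⟩ := exists_ne_zero_of_h0 k (RefHull.dual N) E
    (H28Pinch.isFinLocFree_of_isInvertible hA) hpos
  obtain ⟨a, s, -, -, has, -, hs, hmono, -⟩ := exists_image_data (k := k) hdim.le hA₁ hE φ
  haveI : Mono φ := hmono (by have := hs hφ; omega)
  obtain ⟨G, ι, c, hι, hG, hc, hsc, -, -⟩ := exists_saturated_quotient (k := k) hdim.le hE hA₁ φ
  obtain rfl : c = r := by omega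
  exact ⟨G, cokernel ι, ι, cokernel.π ι, cokernel.condition ι, H22Alg.KExists.isInvertible_of_rank_one hG, hc,
    { exact := ShortComplex.exact_cokernel _ }⟩

/-- Sections of the iterated Frobenius pullback grow at most like the degree of Frobenius. -/
theorem h0_frPull_le (hdim : topologicalKrullDim X = 1) {L : X.Modules} (hL : PicF.IsInvertible L) :
    ∀ (r : ℕ) (E : X.Modules), FlatMod.IsFinLocFreeOfRank r E →
      ∃ M : ℕ, ∀ n, Module.finrank k (Coh.HH X (CohB1.tensorMod (frPull p n E) L) 0) ≤ M * p ^ n := by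
  haveI := isNoetherian_of_proper (k := k) (X := X)
  have line : ∀ A : X.Modules, PicF.IsInvertible A → ∃ M : ℕ, ∀ n,
      Module.finrank k (Coh.HH X (CohB1.tensorMod (frPull p n A) L) 0) ≤ M * p ^ n := by
    intro A hA
    refine ⟨(Curv2.deg k X A 1).natAbs + (Curv2.deg k X L 1).natAbs + 1, fun n => ?_⟩
    have hn := H22Alg.KExists.isInvertible_of_rank_one (rank_frPull p (rank_one_of_isInvertible hA) n)
    have hT := H11Ample.isInvertible_tensor hn hL
    refine (LineBound.h0_le (k := k) hdim _ _ 1 (rank_one_of_isInvertible hT) fun M φ hM hφ => ?_).trans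
      (one_mul _).le
    have h1 := deg_le_of_ne_zero (k := k) hdim.le hM hT hφ
    rw [deg_tensor (k := k) hdim.le hn hL, deg_frPull p hdim hA] at h1
    have hq : (1 : ℤ) ≤ (p : ℤ) ^ n :=
      one_le_pow₀ (by exact_mod_cast (Fact.out : p.Prime).one_le)
    have h2 := le_abs_self (Curv2.deg k X A 1)
    have h3 := le_abs_self (Curv2.deg k X L 1)
    have h4 := abs_nonneg (Curv2.deg k X L 1)
    push_cast
    nlinarith
  intro r
  induction r with
  | zero =>
    intro E hE
    refine ⟨0, fun n => ?_⟩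
    refine (LineBound.h0_le (k := k) hdim 0 _ 0 (rank_tensor (rank_frPull p hE n) hL) fun M φ hM hφ => ?_).trans (by simp)
    exact absurd ((isZero_of_rank_zero (rank_tensor (rank_frPull p hE n) hL)).eq_of_tgt φ 0) hφ
  | succ r ih =>
    intro E hE
    obtain ⟨A, Q, f, g, w, hA, hQ, hS⟩ := exists_line_ses (k := k) hdim hE
    obtain ⟨M₁, hM₁⟩ := line A hA
    obtain ⟨M₂, hM₂⟩ := ih Q hQ
    refine ⟨M₁ + M₂, fun n => ?_⟩
    obtain ⟨f', g', w', hS'⟩ := exists_ses_frPull p hQ hS n
    have hflat : FlatMod.IsFlat L :=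
      H16Derived.KFlat.Stalk.isFlat_of_isFinLocFree (H28Pinch.isFinLocFree_of_isInvertible hL)
    have hS'' := H16Derived.KFlat.Stalk.isFlatObj_of_isFlat hflat _ hS'
    let T := (ShortComplex.mk f' g' w').map ((DCoh.tensorBi (X := X)).flip.obj L)
    haveI : FiniteDimensional k (Coh.HH X T.X₁ 0) := H10Coh.finite_HH_proper k X _
      (isCoh_of_rank (rank_tensor (rank_frPull p (rank_one_of_isInvertible hA) n) hL)) 0
    haveI : FiniteDimensional k (Coh.HH X T.X₂ 0) :=
      H10Coh.finite_HH_proper k X _ (isCoh_of_rank (rank_tensor (rank_frPull p hE n) hL)) 0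
    haveI : FiniteDimensional k (Coh.HH X T.X₃ 0) :=
      H10Coh.finite_HH_proper k X _ (isCoh_of_rank (rank_tensor (rank_frPull p hQ n) hL)) 0
    have h := H11Plane.finrank_h0_le_of_shortExact (k := k) (S := T) hS''
    exact h.trans ((Nat.add_le_add (hM₁ n) (hM₂ n)).trans (add_mul _ _ _).ge)

end Groth.Agent.H23SS
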