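import Groth.Agent.H23SS.HomSpaces
import Groth.Agent.H7KS.Weil
import Groth.Agent.H23Weil.DualPow
import Groth.Agent.H23KS.CurveLattice

/-!
# Bundles finite in the sense of Weil are semistable of degree zero
-/

set_option autoImplicit false
set_option linter.style.haveILetI false
set_option backward.isDefEq.respectTransparency.types false

universe u

open CategoryTheory CategoryTheory.Limits AlgebraicGeometry TopologicalSpace Opposite
open Groth.Agent.H29RR Groth.Agent.H29CurveDual

noncomputable section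

namespace Groth.Agent.H23SS

attribute [local instance 10000] H10Coh.hasSheafifyAb H10Coh.hasWeakSheafifyAb H10Coh.hasExtAb H10Coh.enoughInjAb
attribute [local instance] homModule

section Mono

variable {X : Scheme.{u}}

theorem mono_tensor {A A' B B' : X.Modules} (hB : FlatMod.IsFinLocFree B) (hA' : FlatMod.IsFinLocFree A')
    (a : A ⟶ A') [Mono a] (b : B ⟶ B') [Mono b] :
    ∃ c : CohB1.tensorMod A B ⟶ CohB1.tensorMod A' B', Mono c := by
  have hS : (ShortComplex.mk a (cokernel.π a) (cokernel.condition a)).ShortExact :=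
    { exact := ShortComplex.exact_cokernel _ }
  have hT : (ShortComplex.mk b (cokernel.π b) (cokernel.condition b)).ShortExact :=
    { exact := ShortComplex.exact_cokernel _ }
  let c1 : CohB1.tensorMod A B ⟶ CohB1.tensorMod A' B := ((DCoh.tensorBi (X := X)).flip.obj B).map a
  let c2 : CohB1.tensorMod B A' ⟶ CohB1.tensorMod B' A' := ((DCoh.tensorBi (X := X)).flip.obj A').map b
  haveI : Mono c1 := (H16Derived.KFlat.Stalk.isFlatObj_of_isFlat
    (H16Derived.KFlat.Stalk.isFlat_of_isFinLocFree hB) _ hS).mono_f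
  haveI : Mono c2 := (H16Derived.KFlat.Stalk.isFlatObj_of_isFlat
    (H16Derived.KFlat.Stalk.isFlat_of_isFinLocFree hA') _ hT).mono_f
  haveI : Mono (c2 ≫ (H10Coh.Tw.commIso B' A').hom) := mono_comp _ _
  haveI : Mono ((H10Coh.Tw.commIso A' B).hom ≫ c2 ≫ (H10Coh.Tw.commIso B' A').hom) := mono_comp _ _
  exact ⟨c1 ≫ (H10Coh.Tw.commIso A' B).hom ≫ c2 ≫ (H10Coh.Tw.commIso B' A').hom, mono_comp _ _⟩

theorem mono_tensorPow {F E : X.Modules} (hF : FlatMod.IsFinLocFree F) (hE : FlatMod.IsFinLocFree E)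
    (i : F ⟶ E) [Mono i] : ∀ m : ℕ, ∃ c : CohB1.tensorPow F m ⟶ CohB1.tensorPow E m, Mono c
  | 0 => ⟨𝟙 (Coh.structureModule X), (inferInstance : Mono (𝟙 (Coh.structureModule X)))⟩
  | m + 1 => by
    obtain ⟨c, hc⟩ := mono_tensorPow hF hE i m
    haveI := hc
    exact mono_tensor hF (H7KS.isFinLocFree_tensorPow hE m) c i

end Mono

variable {k : Type u} [Field k] {X : Scheme.{u}} [X.Over (Spec (CommRingCat.of k))] [IsIntegral X]
  [IsProper (X ↘ Spec (CommRingCat.of k))] [Smooth (X ↘ Spec (CommRingCat.of k))]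

omit [Smooth (X ↘ Spec (CommRingCat.of k))] in
include k in
/-- Ranks multiply in tensor products. -/
theorem rank_tensor_bundle {A B : X.Modules} {n m : ℕ} (hA : FlatMod.IsFinLocFreeOfRank n A)
    (hB : FlatMod.IsFinLocFreeOfRank m B) : FlatMod.IsFinLocFreeOfRank (n * m) (CohB1.tensorMod A B) := by
  haveI := isNoetherian_of_proper (k := k) (X := X)
  have hAf : FlatMod.IsFinLocFree A := fun x => let ⟨U, hx, h⟩ := hA x; ⟨U, n, hx, h⟩
  have hBf : FlatMod.IsFinLocFree B := fun x => let ⟨U, hx, h⟩ := hB x; ⟨U, m, hx, h⟩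
  refine H23KS.CurveLattice.isFinLocFreeOfRank_of_generic _ (H16Derived.KFlat.Stalk.isFinLocFree_tensor hAf hBf) ?_
  obtain ⟨hf, hfin, hr⟩ := H25Par.finrank_stalk hA (genericPoint X)
  obtain ⟨hf', hfin', hr'⟩ := H25Par.finrank_stalk hB (genericPoint X)
  haveI := hf; haveI := hfin; haveI := hf'; haveI := hfin'
  exact (H16Derived.KFlat.Stalk.stalkEquiv A B (genericPoint X)).finrank_eq.symm.trans
    (by rw [Module.finrank_tensorProduct, hr, hr'])

/-- Degrees of tensor products. -/
theorem deg_tensor_bundles (hdim : topologicalKrullDim X = 1) {A B : X.Modules} {n m : ℕ}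
    (hA : FlatMod.IsFinLocFreeOfRank n A) (hB : FlatMod.IsFinLocFreeOfRank m B) :
    Curv2.deg k X (CohB1.tensorMod A B) (n * m) =
      (m : ℤ) * Curv2.deg k X A n + (n : ℤ) * Curv2.deg k X B m := by
  haveI := isNoetherian_of_proper (k := k) (X := X)
  have h := euler_tensor_eq (k := k) hA hdim.le (isCoh_of_rank hB)
  rw [finrank_generic hB] at h
  simp only [Curv2.deg, Nat.cast_mul] at h ⊢
  linear_combination h

theorem rank_deg_tensorPow (hdim : topologicalKrullDim X = 1) {F : X.Modules} {r : ℕ}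
    (hF : FlatMod.IsFinLocFreeOfRank r F) : ∀ m : ℕ, FlatMod.IsFinLocFreeOfRank (r ^ m) (CohB1.tensorPow F m) ∧
      Curv2.deg k X (CohB1.tensorPow F m) (r ^ m) * (r : ℤ) = (m : ℤ) * (r : ℤ) ^ m * Curv2.deg k X F r
  | 0 => by
    refine ⟨?_, ?_⟩
    · rw [pow_zero]
      exact rank_one_of_isInvertible (H11Ample.isInvertible_structureModule (X := X))
    · rw [pow_zero, Nat.cast_zero, zero_mul, zero_mul,
        show Curv2.deg k X (CohB1.tensorPow F 0) 1 = 0 from deg_structureModule, zero_mul]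
  | m + 1 => by
    obtain ⟨h1, h2⟩ := rank_deg_tensorPow hdim hF m
    refine ⟨rank_tensor_bundle (k := k) h1 hF, ?_⟩
    rw [pow_succ r m, show Curv2.deg k X (CohB1.tensorPow F (m + 1)) (r ^ m * r) = _ from
      deg_tensor_bundles (k := k) hdim h1 hF]
    push_cast
    linear_combination (r : ℤ) * h2

/-- Maps out of line bundles of high degree into a bundle vanish. -/
theorem hom_eq_zero_of_deg (hdim : topologicalKrullDim X = 1) {L B : X.Modules} {n : ℕ}
    (hL : PicF.IsInvertible L) (hB : FlatMod.IsFinLocFreeOfRank n B)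
    (hd : (Module.finrank k (Coh.HH X B 0) : ℤ) - Curv2.euler k X (Coh.structureModule X) < Curv2.deg k X L 1)
    (φ : L ⟶ B) : φ = 0 := by
  by_contra hφ
  haveI := isNoetherian_of_proper (k := k) (X := X)
  obtain ⟨a, r, hK, hG, har, hr1, hr0, hmono, -⟩ :=
    exists_image_data (k := k) hdim.le (rank_one_of_isInvertible hL) hB φ
  haveI : Mono φ := hmono (by have := hr0 hφ; omega)
  have := deg_le_h0 (k := k) hdim.le (s := 1) (isCoh_of_rank hB) φ
  push_cast at this
  omega

omit [Smooth (X ↘ Spec (CommRingCat.of k))] in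
theorem deg_tensorPow_invertible (hdim : topologicalKrullDim X = 1) {L : X.Modules} (hL : PicF.IsInvertible L) :
    ∀ m : ℕ, PicF.IsInvertible (CohB1.tensorPow L m) ∧
      Curv2.deg k X (CohB1.tensorPow L m) 1 = (m : ℤ) * Curv2.deg k X L 1
  | 0 => ⟨H11Ample.isInvertible_structureModule, by
      rw [Nat.cast_zero, zero_mul]; exact deg_structureModule⟩
  | m + 1 => by
    obtain ⟨h1, h2⟩ := deg_tensorPow_invertible hdim hL m
    refine ⟨H11Ample.isInvertible_tensor h1 hL, ?_⟩
    rw [show Curv2.deg k X (CohB1.tensorPow L (m + 1)) 1 = _ from deg_tensor (k := k) hdim.le h1 hL, h2]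
    push_cast
    ring

/-- Invertible modules of arbitrarily large degree. -/
theorem exists_deg_gt [IsAlgClosed k] (hdim : topologicalKrullDim X = 1) (C : ℤ) :
    ∃ L : X.Modules, PicF.IsInvertible L ∧ C < Curv2.deg k X L 1 := by
  haveI := isNoetherian_of_proper (k := k) (X := X)
  obtain ⟨x, -, hx⟩ := IsClosed.exists_closed_singleton (S := (Set.univ : Set X)) isClosed_univ Set.univ_nonempty
  have h1 := finrank_residue_eq_one (k := k) hx
  have hI := isInvertible_pt (k := k) hdim hx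
  have hdI : Curv2.deg k X (ClSub.idealMod (ptIdeal x)) 1 = -1 := by
    obtain ⟨-, -, h3⟩ := twist_point (k := k) hx (H11Ample.isInvertible_structureModule (X := X))
      (H29CurveDual.isCoh_of_isInvertible hI)
    rw [H25Euler.euler_congr (k := k) (SecTwist.unitorR _), h1] at h3
    rw [deg_def]
    push_cast at h3
    omega
  obtain ⟨N, hN, ⟨e⟩⟩ := exists_inverse_comm hI
  have hdN : Curv2.deg k X N 1 = 1 := by
    have := deg_tensor (k := k) hdim.le hI hN
    rw [deg_congr (k := k) e, deg_structureModule] at this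
    omega
  obtain ⟨h, hd⟩ := deg_tensorPow_invertible (k := k) hdim hN (C.toNat + 1)
  refine ⟨_, h, ?_⟩
  rw [hd, hdN]
  omega

/-- Subsheaves of a Weil finite bundle have non-positive degree. -/
theorem deg_sub_le_zero [IsAlgClosed k] (hdim : topologicalKrullDim X = 1) {E F : X.Modules} {r s : ℕ}
    (hE : FlatMod.IsFinLocFreeOfRank r E) (hwf : H7KS.WF E) (hF : FlatMod.IsFinLocFreeOfRank s F) (hs : 0 < s)
    (i : F ⟶ E) [Mono i] : Curv2.deg k X F s ≤ 0 := by
  classical
  haveI := isNoetherian_of_proper (k := k) (X := X)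
  have hEf : FlatMod.IsFinLocFree E := fun x => let ⟨U, hx, h⟩ := hE x; ⟨U, r, hx, h⟩
  have hFf : FlatMod.IsFinLocFree F := fun x => let ⟨U, hx, h⟩ := hF x; ⟨U, s, hx, h⟩
  obtain ⟨N, hN⟩ := H7KS.gen_of_wf k (fun n => H7KS.isCoh_tensorPow k hEf n) hwf
  obtain ⟨L, hL, hdL⟩ := exists_deg_gt (k := k) (X := X) hdim
    ((∑ j : Fin N, (Module.finrank k (Coh.HH X (CohB1.tensorPow E j) 0) : ℤ)) -
      Curv2.euler k X (Coh.structureModule X))
  have hzero : ∀ (m : ℕ) (φ : L ⟶ CohB1.tensorPow E m), φ = 0 := fun m φ => by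
    obtain ⟨J, hJ, g, a, b, hab⟩ := hN m
    rw [← Category.comp_id φ, ← hab, Preadditive.comp_sum]
    refine Finset.sum_eq_zero fun j _ => ?_
    have h1 : φ ≫ a j = 0 := hom_eq_zero_of_deg (k := k) hdim hL (rank_deg_tensorPow (k := k) hdim hE (g j)).1
      (lt_of_le_of_lt (sub_le_sub_right (Finset.single_le_sum (f := fun l : Fin N =>
        (Module.finrank k (Coh.HH X (CohB1.tensorPow E l) 0) : ℤ)) (fun l _ => Int.natCast_nonneg _)
        (Finset.mem_univ (g j))) _) hdL) (φ ≫ a j)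
    rw [← Category.assoc, h1, zero_comp]
  by_contra hd
  obtain ⟨N', hN', ⟨e⟩⟩ := exists_inverse_comm hL
  let c : ℤ := Curv2.deg k X N' 1 + Curv2.euler k X (Coh.structureModule X)
  let m : ℕ := s * ((-c).toNat + 1)
  obtain ⟨hG, hdG⟩ := rank_deg_tensorPow (k := k) hdim hF m
  obtain ⟨j, hj⟩ := mono_tensorPow hFf hEf i m
  haveI := hj
  have hGN := rank_tensor hG hN'
  have hpos : 0 < Curv2.euler k X (CohB1.tensorMod (CohB1.tensorPow F m) N') := by
    have h1 := deg_tensor_bundle (k := k) hdim.le hG hN'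
    simp only [Curv2.deg] at h1 hdG
    have hs' : (1 : ℤ) ≤ (s : ℤ) := by exact_mod_cast hs
    have hsm : (0 : ℤ) < (s : ℤ) ^ m := pow_pos (by omega) m
    have hm : (m : ℤ) = (s : ℤ) * (((-c).toNat : ℤ) + 1) := by simp [m]
    have hc : 1 ≤ c + ((-c).toNat : ℤ) + 1 := by omega
    have hd' : (1 : ℤ) ≤ Curv2.euler k X F - (s : ℤ) * Curv2.euler k X (Coh.structureModule X) := by
      simp only [Curv2.deg] at hd; omega
    push_cast at h1 hdG
    have hcv : c = Curv2.euler k X N' := by
      simp only [c, Curv2.deg, Nat.cast_one, one_mul]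
      ring
    rw [hm] at hdG
    have key : Curv2.euler k X (CohB1.tensorMod (CohB1.tensorPow F m) N') * (s : ℤ) =
        (s : ℤ) * (s : ℤ) ^ m * ((((-c).toNat : ℤ) + 1) *
          (Curv2.euler k X F - (s : ℤ) * Curv2.euler k X (Coh.structureModule X)) + c) := by
      rw [hcv] at hdG ⊢
      linear_combination (s : ℤ) * h1 + hdG
    have hle : (1 : ℤ) ≤ (((-c).toNat : ℤ) + 1) *
        (Curv2.euler k X F - (s : ℤ) * Curv2.euler k X (Coh.structureModule X)) + c := by
      nlinarith [mul_le_mul_of_nonneg_left hd' (show (0 : ℤ) ≤ ((-c).toNat : ℤ) + 1 by omega)]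
    have hp : (0 : ℤ) < (s : ℤ) * (s : ℤ) ^ m * ((((-c).toNat : ℤ) + 1) *
        (Curv2.euler k X F - (s : ℤ) * Curv2.euler k X (Coh.structureModule X)) + c) :=
      mul_pos (mul_pos (by omega) hsm) (by omega)
    rw [← key] at hp
    exact pos_of_mul_pos_left hp (by omega)
  have hh : 0 < Module.finrank k (L ⟶ CohB1.tensorPow F m) := by
    rw [finrank_hom_invertible k hN' e]
    rw [euler_eq_sub (k := k) hdim.le] at hpos
    omega
  haveI : Subsingleton (L ⟶ CohB1.tensorPow F m) :=
    ⟨fun a b => (cancel_mono j).1 ((hzero m (a ≫ j)).trans (hzero m (b ≫ j)).symm)⟩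
  rw [Module.finrank_zero_of_subsingleton] at hh
  exact lt_irrefl _ hh

/-- Weil finite bundles are semistable of degree zero. -/
theorem deg_eq_zero_of_wf [IsAlgClosed k] (hdim : topologicalKrullDim X = 1) {E : X.Modules} {r : ℕ} (hr : 0 < r)
    (hE : FlatMod.IsFinLocFreeOfRank r E) (hwf : H7KS.WF E) : Curv2.deg k X E r = 0 := by
  have hEf : FlatMod.IsFinLocFree E := fun x => let ⟨U, hx, h⟩ := hE x; ⟨U, r, hx, h⟩
  have h1 := deg_sub_le_zero (k := k) hdim hE hwf hE hr (𝟙 E)
  have hwf' : H7KS.WF (RefHull.dual E) := by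
    obtain ⟨P, Q, hne, h⟩ := hwf
    exact ⟨P, Q, hne, (H23Weil.finite_iff_dual hEf P Q).1 h⟩
  have h2 := deg_sub_le_zero (k := k) hdim (ofRank_dual hE) hwf' (ofRank_dual hE) hr (𝟙 _)
  rw [deg_dual (k := k) hdim hE] at h2
  omega

end Groth.Agent.H23SS
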